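import Cfsg.Agent.H830.B57.Str

/-!
# S5717, D6: the index of `A` in `R`
-/

set_option autoImplicit false

open Subgroup

namespace Cfsg.Agent.H39.B57

variable {p : ℕ} [Fact p.Prime] {V : Type} [AddCommGroup V] [Module (ZMod p) V]

/-- `R / A` is at most `(dim V)^2` when `A = Z(R)`, `R' ≤ A` and `A` lies in a field of endomorphisms
commuting with `R`. -/
theorem relIndex_le_of_field [Finite V] (A R : Subgroup (V ≃ₗ[ZMod p] V)) (hAR : A ≤ R)
    (hRA : ∀ x ∈ R, ∀ a ∈ A, x * a = a * x)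
    (Rcomm : ∀ x ∈ R, ∀ y ∈ R, x * y * x⁻¹ * y⁻¹ ∈ A)
    (Rcent : ∀ x ∈ R, (∀ y ∈ R, x * y = y * x) → x ∈ A)
    (hnt : ∃ v : V, v ≠ 0)
    (hE : ∃ (E : Subalgebra (ZMod p) (Module.End (ZMod p) V)), IsField E ∧
      (∀ a ∈ A, ((a : V ≃ₗ[ZMod p] V) : V →ₗ[ZMod p] V) ∈ E) ∧
      ∀ x : V ≃ₗ[ZMod p] V, (∀ a ∈ A, x * a = a * x) → ∀ z ∈ E,
        (x : V →ₗ[ZMod p] V) * z = z * (x : V →ₗ[ZMod p] V)) :
    A.relIndex R ≤ (Module.finrank (ZMod p) V) ^ 2 := by
  classical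
  obtain ⟨E, hF, hAE, hcomm⟩ := hE
  let : Field E := hF.toField
  have : Finite E := by
    have : Finite (Module.End (ZMod p) V) := by
      refine Finite.of_injective (fun f : Module.End (ZMod p) V => (f : V → V)) ?_
      intro f g h
      exact DFunLike.coe_injective h
    infer_instance
  have : FiniteDimensional E V := Module.Finite.of_finite
  have : FiniteDimensional (ZMod p) V := Module.Finite.of_finite
  have : FiniteDimensional (ZMod p) E := Module.Finite.of_finite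
  -- elements of `R` as `E`-linear maps
  let rK : R → (V →ₗ[E] V) := fun r =>
    { toFun := fun v => (r : V ≃ₗ[ZMod p] V) v
      map_add' := fun v w => map_add _ v w
      map_smul' := by
        intro z v
        have h := hcomm (r : V ≃ₗ[ZMod p] V) (fun a ha => hRA r r.2 a ha) z z.2
        exact congrArg (fun f : Module.End (ZMod p) V => f v) h }
  -- the characters
  let chi : R → (R →* E) := fun r =>
    { toFun := fun x => ⟨(((x : V ≃ₗ[ZMod p] V) * r * (x : V ≃ₗ[ZMod p] V)⁻¹ * (r : V ≃ₗ[ZMod p] V)⁻¹ :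
          V ≃ₗ[ZMod p] V) : V →ₗ[ZMod p] V), hAE _ (Rcomm x x.2 r r.2)⟩
      map_one' := by
        apply Subtype.ext
        simp
        rfl
      map_mul' := by
        intro x y
        apply Subtype.ext
        have h1 := hRA (x : V ≃ₗ[ZMod p] V) x.2 _ (Rcomm y y.2 r r.2)
        have h2 := hRA (x : V ≃ₗ[ZMod p] V)⁻¹ (R.inv_mem x.2) _ (Rcomm y y.2 r r.2)
        have h3 : ((x * y : R) : V ≃ₗ[ZMod p] V) * r * ((x * y : R) : V ≃ₗ[ZMod p] V)⁻¹ *
            (r : V ≃ₗ[ZMod p] V)⁻¹ =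
            ((x : V ≃ₗ[ZMod p] V) * r * (x : V ≃ₗ[ZMod p] V)⁻¹ * (r : V ≃ₗ[ZMod p] V)⁻¹) *
            ((y : V ≃ₗ[ZMod p] V) * r * (y : V ≃ₗ[ZMod p] V)⁻¹ * (r : V ≃ₗ[ZMod p] V)⁻¹) := by
          have hb := Rcomm x x.2 r r.2
          have h4 := hRA _ (hAR hb) _ (Rcomm y y.2 r r.2)
          simp only [Subgroup.coe_mul, mul_inv_rev]
          rw [h4]
          have h5 : (y : V ≃ₗ[ZMod p] V) * r * (y : V ≃ₗ[ZMod p] V)⁻¹ =
            ((y : V ≃ₗ[ZMod p] V) * r * (y : V ≃ₗ[ZMod p] V)⁻¹ * (r : V ≃ₗ[ZMod p] V)⁻¹) * r := by group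
          calc (x : V ≃ₗ[ZMod p] V) * y * r * ((y : V ≃ₗ[ZMod p] V)⁻¹ * (x : V ≃ₗ[ZMod p] V)⁻¹) *
                (r : V ≃ₗ[ZMod p] V)⁻¹
              = (x : V ≃ₗ[ZMod p] V) * ((y : V ≃ₗ[ZMod p] V) * r * (y : V ≃ₗ[ZMod p] V)⁻¹) *
                (x : V ≃ₗ[ZMod p] V)⁻¹ * (r : V ≃ₗ[ZMod p] V)⁻¹ := by group
            _ = ((x : V ≃ₗ[ZMod p] V) * ((y : V ≃ₗ[ZMod p] V) * r * (y : V ≃ₗ[ZMod p] V)⁻¹ *
                (r : V ≃ₗ[ZMod p] V)⁻¹)) * r * (x : V ≃ₗ[ZMod p] V)⁻¹ * (r : V ≃ₗ[ZMod p] V)⁻¹ := by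
                rw [h5]; group
            _ = (((y : V ≃ₗ[ZMod p] V) * r * (y : V ≃ₗ[ZMod p] V)⁻¹ *
                (r : V ≃ₗ[ZMod p] V)⁻¹) * (x : V ≃ₗ[ZMod p] V)) * r * (x : V ≃ₗ[ZMod p] V)⁻¹ *
                (r : V ≃ₗ[ZMod p] V)⁻¹ := by rw [h1]
            _ = _ := by group
        change ((((x * y : R) : V ≃ₗ[ZMod p] V) * r * ((x * y : R) : V ≃ₗ[ZMod p] V)⁻¹ *
            (r : V ≃ₗ[ZMod p] V)⁻¹ : V ≃ₗ[ZMod p] V) : V →ₗ[ZMod p] V) = _
        rw [h3]
        rfl }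
  have hchi : ∀ r x : R, ((chi r x : E) : V →ₗ[ZMod p] V) =
      (((x : V ≃ₗ[ZMod p] V) * r * (x : V ≃ₗ[ZMod p] V)⁻¹ * (r : V ≃ₗ[ZMod p] V)⁻¹ :
          V ≃ₗ[ZMod p] V) : V →ₗ[ZMod p] V) := fun r x => rfl
  let A' := A.subgroupOf R
  have hinj : Function.Injective (fun i : R ⧸ A' => chi (Quotient.out i)) := by
    intro i j hij
    have hij' : chi (Quotient.out i) = chi (Quotient.out j) := hij
    rw [← Quotient.out_eq i, ← Quotient.out_eq j]
    change ((Quotient.out i : R) : R ⧸ A') = ((Quotient.out j : R) : R ⧸ A')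
    rw [QuotientGroup.eq]
    change (((Quotient.out i : R)⁻¹ * (Quotient.out j : R) : R) : V ≃ₗ[ZMod p] V) ∈ A
    refine Rcent _ (Subtype.coe_prop _) ?_
    intro y hy
    have h1 := congrArg (fun f : R →* E => ((f ⟨y⁻¹, R.inv_mem hy⟩ : E) : V →ₗ[ZMod p] V)) hij'
    simp only [hchi] at h1
    have h2 := LinearEquiv.toLinearMap_injective h1
    set r : V ≃ₗ[ZMod p] V := ((Quotient.out i : R) : V ≃ₗ[ZMod p] V) with hr
    set s : V ≃ₗ[ZMod p] V := ((Quotient.out j : R) : V ≃ₗ[ZMod p] V) with hs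
    have h3 : y⁻¹ * r * y * r⁻¹ = y⁻¹ * s * y * s⁻¹ := by
      simpa using h2
    have h4 : r * y * r⁻¹ = s * y * s⁻¹ := by
      have := congrArg (fun z => y * z) h3
      simpa [mul_assoc] using this
    have h5 : (r⁻¹ * s) * y = y * (r⁻¹ * s) := by
      calc (r⁻¹ * s) * y = r⁻¹ * (s * y * s⁻¹) * s := by group
        _ = r⁻¹ * (r * y * r⁻¹) * s := by rw [h4]
        _ = y * (r⁻¹ * s) := by group
    simpa [hr, hs] using h5
  have hli0 := (linearIndependent_monoidHom R E).comp _ hinj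
  have : Finite (V ≃ₗ[ZMod p] V) := by
    refine Finite.of_injective (fun f : V ≃ₗ[ZMod p] V => (f : V → V)) ?_
    intro f g h
    exact DFunLike.coe_injective h
  have : Fintype (R ⧸ A') := Fintype.ofFinite _
  have hli : LinearIndependent E (fun i : R ⧸ A' => rK (Quotient.out i)) := by
    rw [Fintype.linearIndependent_iff] at hli0 ⊢
    intro c hc
    -- the relation on vectors
    have hrel : ∀ (x : R) (v : V), ∑ i, c i • ((chi (Quotient.out i) x : E) • rK (Quotient.out i) v) = 0 := by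
      intro x v
      have h1 := congrArg (fun f : V →ₗ[E] V => rK x (f (((x : V ≃ₗ[ZMod p] V)⁻¹) v))) hc
      simp only [LinearMap.coe_sum, Finset.sum_apply, LinearMap.smul_apply, map_sum, map_smul,
        LinearMap.zero_apply, map_zero] at h1
      rw [← h1]
      refine Finset.sum_congr rfl fun i _ => ?_
      congr 1
      change ((((x : V ≃ₗ[ZMod p] V) * ((Quotient.out i : R) : V ≃ₗ[ZMod p] V) *
        (x : V ≃ₗ[ZMod p] V)⁻¹ * ((Quotient.out i : R) : V ≃ₗ[ZMod p] V)⁻¹ :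
          V ≃ₗ[ZMod p] V) * ((Quotient.out i : R) : V ≃ₗ[ZMod p] V)) v) =
        (((x : V ≃ₗ[ZMod p] V) * ((Quotient.out i : R) : V ≃ₗ[ZMod p] V) *
        (x : V ≃ₗ[ZMod p] V)⁻¹) v)
      congr 1
      group
    intro i
    by_contra hci
    obtain ⟨v0, hv0⟩ := hnt
    -- a vector and a functional
    set v : V := (((Quotient.out i : R) : V ≃ₗ[ZMod p] V)⁻¹) v0 with hv
    have hiv : rK (Quotient.out i) v = v0 := by
      change (((Quotient.out i : R) : V ≃ₗ[ZMod p] V) * ((Quotient.out i : R) : V ≃ₗ[ZMod p] V)⁻¹) v0 = v0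
      rw [mul_inv_cancel]; rfl
    obtain ⟨lam, hlam⟩ : ∃ lam : V →ₗ[E] E, lam v0 ≠ 0 := by
      by_contra hcon
      push Not at hcon
      exact hv0 ((Module.forall_dual_apply_eq_zero_iff E v0).1 hcon)
    have h2 := hli0 (fun i => c i * lam (rK (Quotient.out i) v)) (by
      funext x
      have h3 := congrArg lam (hrel x v)
      rw [map_sum, map_zero] at h3
      simp only [Finset.sum_apply, Pi.smul_apply, smul_eq_mul, Function.comp_apply, Pi.zero_apply]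
      rw [← h3]
      refine Finset.sum_congr rfl fun i _ => ?_
      rw [map_smul, map_smul, smul_eq_mul, smul_eq_mul]
      ring) i
    rw [hiv] at h2
    rcases mul_eq_zero.1 h2 with h | h
    · exact hci h
    · exact hlam h
  have hcard := hli.fintype_card_le_finrank
  have h1 : Fintype.card (R ⧸ A') = A.relIndex R := by
    rw [← Nat.card_eq_fintype_card]; rfl
  rw [h1, Module.finrank_linearMap] at hcard
  have h2 : Module.finrank E V ≤ Module.finrank (ZMod p) V := by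
    have h3 := Module.finrank_mul_finrank (ZMod p) E V
    have h4 : 0 < Module.finrank (ZMod p) E := Module.finrank_pos
    nlinarith
  calc A.relIndex R ≤ Module.finrank E V * Module.finrank E V := hcard
    _ ≤ Module.finrank (ZMod p) V ^ 2 := by
      rw [sq]
      exact Nat.mul_le_mul h2 h2

/-- D6: the number of cosets of `A` in `R`, from the field property of `A` (D2). -/
theorem card_RA_of [Finite V]
    (D2 : ∀ (X : Subgroup (V ≃ₗ[ZMod p] V)), H830.B57.PrimLin X →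
      ∀ (A : Subgroup (V ≃ₗ[ZMod p] V)), A ≤ X → (∀ x ∈ X, ∀ y ∈ A, x * y * x⁻¹ ∈ A) →
      (∀ x ∈ A, ∀ y ∈ A, x * y = y * x) →
      IsCyclic A ∧ (∀ a ∈ A, a ≠ 1 → ∀ v : V, a v = v → v = 0) ∧
      ∃ (E : Subalgebra (ZMod p) (Module.End (ZMod p) V)), IsField E ∧
        (∀ a ∈ A, ((a : V ≃ₗ[ZMod p] V) : V →ₗ[ZMod p] V) ∈ E) ∧
        ∀ x : V ≃ₗ[ZMod p] V, (∀ a ∈ A, x * a = a * x) → ∀ z ∈ E,
          (x : V →ₗ[ZMod p] V) * z = z * (x : V →ₗ[ZMod p] V))
    (X : Subgroup (V ≃ₗ[ZMod p] V)) (hX : H830.B57.PrimLin X)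
    (A C R : Subgroup (V ≃ₗ[ZMod p] V)) (t : ℕ) (E : Fin t → Subgroup (V ≃ₗ[ZMod p] V))
    (hS : H830.B57.Str X A C R t E) : A.relIndex R ≤ (Module.finrank (ZMod p) V) ^ 2 := by
  refine relIndex_le_of_field A R hS.AR ?_ hS.Rcomm hS.Rcent hX.nt
    (D2 X hX A (hS.AR.trans (hS.RC.trans hS.CX)) hS.Anorm hS.Acomm).2.2
  intro x hx a ha
  exact ((hS.Ceq x).1 (hS.RC hx)).2 a ha

end Cfsg.Agent.H39.B57
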